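import Cfsg.Agent.Screen.CosetEnum.Fi23Mult.BRT.FCheck7

/-!
# Checking the table
-/

set_option autoImplicit false
set_option maxRecDepth 20000

namespace Cfsg.Agent.Screen.CosetEnum.Fi23Mult.BRT

open Cfsg.Agent.Screen.CosetEnum

set_option Elab.async false

theorem fcheck216 : blocks tbl.toCert 40 8640 = true := by decide +kernel

theorem fcheck217 : blocks tbl.toCert 40 8680 = true := by decide +kernel

theorem fcheck218 : blocks tbl.toCert 40 8720 = true := by decide +kernel

theorem fcheck219 : blocks tbl.toCert 40 8760 = true := by decide +kernel

theorem fcheck220 : blocks tbl.toCert 40 8800 = true := by decide +kernel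

theorem fcheck221 : blocks tbl.toCert 40 8840 = true := by decide +kernel

theorem fcheck222 : blocks tbl.toCert 40 8880 = true := by decide +kernel

theorem fcheck223 : blocks tbl.toCert 40 8920 = true := by decide +kernel

theorem fcheck224 : blocks tbl.toCert 40 8960 = true := by decide +kernel

theorem fcheck225 : blocks tbl.toCert 40 9000 = true := by decide +kernel

theorem fcheck226 : blocks tbl.toCert 40 9040 = true := by decide +kernel

theorem fcheck227 : blocks tbl.toCert 40 9080 = true := by decide +kernel

theorem fcheck228 : blocks tbl.toCert 40 9120 = true := by decide +kernel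

theorem fcheck229 : blocks tbl.toCert 40 9160 = true := by decide +kernel

theorem fcheck230 : blocks tbl.toCert 40 9200 = true := by decide +kernel

theorem fcheck231 : blocks tbl.toCert 40 9240 = true := by decide +kernel

theorem fcheck232 : blocks tbl.toCert 40 9280 = true := by decide +kernel

theorem fcheck233 : blocks tbl.toCert 40 9320 = true := by decide +kernel

theorem fcheck234 : blocks tbl.toCert 40 9360 = true := by decide +kernel

theorem fcheck235 : blocks tbl.toCert 40 9400 = true := by decide +kernel

theorem fcheck236 : blocks tbl.toCert 40 9440 = true := by decide +kernel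

theorem fcheck237 : blocks tbl.toCert 40 9480 = true := by decide +kernel

theorem fcheck238 : blocks tbl.toCert 40 9520 = true := by decide +kernel

theorem fcheck239 : blocks tbl.toCert 40 9560 = true := by decide +kernel

end Cfsg.Agent.Screen.CosetEnum.Fi23Mult.BRT
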