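import Cfsg.Agent.Screen.CosetEnum.Linked
import Cfsg.Agent.Screen.CosetEnum.Fi23Mult.BRT.Data
import Cfsg.Agent.Screen.CosetEnum.Fi23Mult.BRT.FCheck0
import Cfsg.Agent.Screen.CosetEnum.Fi23Mult.BRT.FCheck1
import Cfsg.Agent.Screen.CosetEnum.Fi23Mult.BRT.FCheck2
import Cfsg.Agent.Screen.CosetEnum.Fi23Mult.BRT.FCheck3
import Cfsg.Agent.Screen.CosetEnum.Fi23Mult.BRT.FCheck4
import Cfsg.Agent.Screen.CosetEnum.Fi23Mult.BRT.FCheck5
import Cfsg.Agent.Screen.CosetEnum.Fi23Mult.BRT.FCheck6
import Cfsg.Agent.Screen.CosetEnum.Fi23Mult.BRT.FCheck7
import Cfsg.Agent.Screen.CosetEnum.Fi23Mult.BRT.FCheck8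
import Cfsg.Agent.Screen.CosetEnum.Fi23Mult.BRT.FCheck9
import Cfsg.Agent.Screen.CosetEnum.Fi23Mult.BRT.FCheck10
import Cfsg.Agent.Screen.CosetEnum.Fi23Mult.BRT.RCheck0
import Cfsg.Agent.Screen.CosetEnum.Fi23Mult.BRT.RCheck1

/-!
# The table is checked
-/

set_option autoImplicit false
set_option maxRecDepth 20000

namespace Cfsg.Agent.Screen.CosetEnum.Fi23Mult.BRT

open Cfsg.Agent.Screen.CosetEnum

theorem linked : tbl.Linked where
  facts b hb := by
    have hb' : b < 10030 := by
      have : tbl.toCert.nf = 240698 := rfl
      omega
    by_cases h0 : b < 40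
    · exact blocks_spec _ _ _ fcheck0 b (by omega) h0
    by_cases h1 : b < 80
    · exact blocks_spec _ _ _ fcheck1 b (by omega) h1
    by_cases h2 : b < 120
    · exact blocks_spec _ _ _ fcheck2 b (by omega) h2
    by_cases h3 : b < 160
    · exact blocks_spec _ _ _ fcheck3 b (by omega) h3
    by_cases h4 : b < 200
    · exact blocks_spec _ _ _ fcheck4 b (by omega) h4
    by_cases h5 : b < 240
    · exact blocks_spec _ _ _ fcheck5 b (by omega) h5
    by_cases h6 : b < 280
    · exact blocks_spec _ _ _ fcheck6 b (by omega) h6
    by_cases h7 : b < 320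
    · exact blocks_spec _ _ _ fcheck7 b (by omega) h7
    by_cases h8 : b < 360
    · exact blocks_spec _ _ _ fcheck8 b (by omega) h8
    by_cases h9 : b < 400
    · exact blocks_spec _ _ _ fcheck9 b (by omega) h9
    by_cases h10 : b < 440
    · exact blocks_spec _ _ _ fcheck10 b (by omega) h10
    by_cases h11 : b < 480
    · exact blocks_spec _ _ _ fcheck11 b (by omega) h11
    by_cases h12 : b < 520
    · exact blocks_spec _ _ _ fcheck12 b (by omega) h12
    by_cases h13 : b < 560
    · exact blocks_spec _ _ _ fcheck13 b (by omega) h13
    by_cases h14 : b < 600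
    · exact blocks_spec _ _ _ fcheck14 b (by omega) h14
    by_cases h15 : b < 640
    · exact blocks_spec _ _ _ fcheck15 b (by omega) h15
    by_cases h16 : b < 680
    · exact blocks_spec _ _ _ fcheck16 b (by omega) h16
    by_cases h17 : b < 720
    · exact blocks_spec _ _ _ fcheck17 b (by omega) h17
    by_cases h18 : b < 760
    · exact blocks_spec _ _ _ fcheck18 b (by omega) h18
    by_cases h19 : b < 800
    · exact blocks_spec _ _ _ fcheck19 b (by omega) h19
    by_cases h20 : b < 840
    · exact blocks_spec _ _ _ fcheck20 b (by omega) h20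
    by_cases h21 : b < 880
    · exact blocks_spec _ _ _ fcheck21 b (by omega) h21
    by_cases h22 : b < 920
    · exact blocks_spec _ _ _ fcheck22 b (by omega) h22
    by_cases h23 : b < 960
    · exact blocks_spec _ _ _ fcheck23 b (by omega) h23
    by_cases h24 : b < 1000
    · exact blocks_spec _ _ _ fcheck24 b (by omega) h24
    by_cases h25 : b < 1040
    · exact blocks_spec _ _ _ fcheck25 b (by omega) h25
    by_cases h26 : b < 1080
    · exact blocks_spec _ _ _ fcheck26 b (by omega) h26
    by_cases h27 : b < 1120
    · exact blocks_spec _ _ _ fcheck27 b (by omega) h27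
    by_cases h28 : b < 1160
    · exact blocks_spec _ _ _ fcheck28 b (by omega) h28
    by_cases h29 : b < 1200
    · exact blocks_spec _ _ _ fcheck29 b (by omega) h29
    by_cases h30 : b < 1240
    · exact blocks_spec _ _ _ fcheck30 b (by omega) h30
    by_cases h31 : b < 1280
    · exact blocks_spec _ _ _ fcheck31 b (by omega) h31
    by_cases h32 : b < 1320
    · exact blocks_spec _ _ _ fcheck32 b (by omega) h32
    by_cases h33 : b < 1360
    · exact blocks_spec _ _ _ fcheck33 b (by omega) h33
    by_cases h34 : b < 1400
    · exact blocks_spec _ _ _ fcheck34 b (by omega) h34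
    by_cases h35 : b < 1440
    · exact blocks_spec _ _ _ fcheck35 b (by omega) h35
    by_cases h36 : b < 1480
    · exact blocks_spec _ _ _ fcheck36 b (by omega) h36
    by_cases h37 : b < 1520
    · exact blocks_spec _ _ _ fcheck37 b (by omega) h37
    by_cases h38 : b < 1560
    · exact blocks_spec _ _ _ fcheck38 b (by omega) h38
    by_cases h39 : b < 1600
    · exact blocks_spec _ _ _ fcheck39 b (by omega) h39
    by_cases h40 : b < 1640
    · exact blocks_spec _ _ _ fcheck40 b (by omega) h40
    by_cases h41 : b < 1680
    · exact blocks_spec _ _ _ fcheck41 b (by omega) h41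
    by_cases h42 : b < 1720
    · exact blocks_spec _ _ _ fcheck42 b (by omega) h42
    by_cases h43 : b < 1760
    · exact blocks_spec _ _ _ fcheck43 b (by omega) h43
    by_cases h44 : b < 1800
    · exact blocks_spec _ _ _ fcheck44 b (by omega) h44
    by_cases h45 : b < 1840
    · exact blocks_spec _ _ _ fcheck45 b (by omega) h45
    by_cases h46 : b < 1880
    · exact blocks_spec _ _ _ fcheck46 b (by omega) h46
    by_cases h47 : b < 1920
    · exact blocks_spec _ _ _ fcheck47 b (by omega) h47
    by_cases h48 : b < 1960
    · exact blocks_spec _ _ _ fcheck48 b (by omega) h48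
    by_cases h49 : b < 2000
    · exact blocks_spec _ _ _ fcheck49 b (by omega) h49
    by_cases h50 : b < 2040
    · exact blocks_spec _ _ _ fcheck50 b (by omega) h50
    by_cases h51 : b < 2080
    · exact blocks_spec _ _ _ fcheck51 b (by omega) h51
    by_cases h52 : b < 2120
    · exact blocks_spec _ _ _ fcheck52 b (by omega) h52
    by_cases h53 : b < 2160
    · exact blocks_spec _ _ _ fcheck53 b (by omega) h53
    by_cases h54 : b < 2200
    · exact blocks_spec _ _ _ fcheck54 b (by omega) h54
    by_cases h55 : b < 2240
    · exact blocks_spec _ _ _ fcheck55 b (by omega) h55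
    by_cases h56 : b < 2280
    · exact blocks_spec _ _ _ fcheck56 b (by omega) h56
    by_cases h57 : b < 2320
    · exact blocks_spec _ _ _ fcheck57 b (by omega) h57
    by_cases h58 : b < 2360
    · exact blocks_spec _ _ _ fcheck58 b (by omega) h58
    by_cases h59 : b < 2400
    · exact blocks_spec _ _ _ fcheck59 b (by omega) h59
    by_cases h60 : b < 2440
    · exact blocks_spec _ _ _ fcheck60 b (by omega) h60
    by_cases h61 : b < 2480
    · exact blocks_spec _ _ _ fcheck61 b (by omega) h61
    by_cases h62 : b < 2520
    · exact blocks_spec _ _ _ fcheck62 b (by omega) h62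
    by_cases h63 : b < 2560
    · exact blocks_spec _ _ _ fcheck63 b (by omega) h63
    by_cases h64 : b < 2600
    · exact blocks_spec _ _ _ fcheck64 b (by omega) h64
    by_cases h65 : b < 2640
    · exact blocks_spec _ _ _ fcheck65 b (by omega) h65
    by_cases h66 : b < 2680
    · exact blocks_spec _ _ _ fcheck66 b (by omega) h66
    by_cases h67 : b < 2720
    · exact blocks_spec _ _ _ fcheck67 b (by omega) h67
    by_cases h68 : b < 2760
    · exact blocks_spec _ _ _ fcheck68 b (by omega) h68
    by_cases h69 : b < 2800
    · exact blocks_spec _ _ _ fcheck69 b (by omega) h69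
    by_cases h70 : b < 2840
    · exact blocks_spec _ _ _ fcheck70 b (by omega) h70
    by_cases h71 : b < 2880
    · exact blocks_spec _ _ _ fcheck71 b (by omega) h71
    by_cases h72 : b < 2920
    · exact blocks_spec _ _ _ fcheck72 b (by omega) h72
    by_cases h73 : b < 2960
    · exact blocks_spec _ _ _ fcheck73 b (by omega) h73
    by_cases h74 : b < 3000
    · exact blocks_spec _ _ _ fcheck74 b (by omega) h74
    by_cases h75 : b < 3040
    · exact blocks_spec _ _ _ fcheck75 b (by omega) h75
    by_cases h76 : b < 3080
    · exact blocks_spec _ _ _ fcheck76 b (by omega) h76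
    by_cases h77 : b < 3120
    · exact blocks_spec _ _ _ fcheck77 b (by omega) h77
    by_cases h78 : b < 3160
    · exact blocks_spec _ _ _ fcheck78 b (by omega) h78
    by_cases h79 : b < 3200
    · exact blocks_spec _ _ _ fcheck79 b (by omega) h79
    by_cases h80 : b < 3240
    · exact blocks_spec _ _ _ fcheck80 b (by omega) h80
    by_cases h81 : b < 3280
    · exact blocks_spec _ _ _ fcheck81 b (by omega) h81
    by_cases h82 : b < 3320
    · exact blocks_spec _ _ _ fcheck82 b (by omega) h82
    by_cases h83 : b < 3360
    · exact blocks_spec _ _ _ fcheck83 b (by omega) h83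
    by_cases h84 : b < 3400
    · exact blocks_spec _ _ _ fcheck84 b (by omega) h84
    by_cases h85 : b < 3440
    · exact blocks_spec _ _ _ fcheck85 b (by omega) h85
    by_cases h86 : b < 3480
    · exact blocks_spec _ _ _ fcheck86 b (by omega) h86
    by_cases h87 : b < 3520
    · exact blocks_spec _ _ _ fcheck87 b (by omega) h87
    by_cases h88 : b < 3560
    · exact blocks_spec _ _ _ fcheck88 b (by omega) h88
    by_cases h89 : b < 3600
    · exact blocks_spec _ _ _ fcheck89 b (by omega) h89
    by_cases h90 : b < 3640
    · exact blocks_spec _ _ _ fcheck90 b (by omega) h90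
    by_cases h91 : b < 3680
    · exact blocks_spec _ _ _ fcheck91 b (by omega) h91
    by_cases h92 : b < 3720
    · exact blocks_spec _ _ _ fcheck92 b (by omega) h92
    by_cases h93 : b < 3760
    · exact blocks_spec _ _ _ fcheck93 b (by omega) h93
    by_cases h94 : b < 3800
    · exact blocks_spec _ _ _ fcheck94 b (by omega) h94
    by_cases h95 : b < 3840
    · exact blocks_spec _ _ _ fcheck95 b (by omega) h95
    by_cases h96 : b < 3880
    · exact blocks_spec _ _ _ fcheck96 b (by omega) h96
    by_cases h97 : b < 3920
    · exact blocks_spec _ _ _ fcheck97 b (by omega) h97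
    by_cases h98 : b < 3960
    · exact blocks_spec _ _ _ fcheck98 b (by omega) h98
    by_cases h99 : b < 4000
    · exact blocks_spec _ _ _ fcheck99 b (by omega) h99
    by_cases h100 : b < 4040
    · exact blocks_spec _ _ _ fcheck100 b (by omega) h100
    by_cases h101 : b < 4080
    · exact blocks_spec _ _ _ fcheck101 b (by omega) h101
    by_cases h102 : b < 4120
    · exact blocks_spec _ _ _ fcheck102 b (by omega) h102
    by_cases h103 : b < 4160
    · exact blocks_spec _ _ _ fcheck103 b (by omega) h103
    by_cases h104 : b < 4200
    · exact blocks_spec _ _ _ fcheck104 b (by omega) h104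
    by_cases h105 : b < 4240
    · exact blocks_spec _ _ _ fcheck105 b (by omega) h105
    by_cases h106 : b < 4280
    · exact blocks_spec _ _ _ fcheck106 b (by omega) h106
    by_cases h107 : b < 4320
    · exact blocks_spec _ _ _ fcheck107 b (by omega) h107
    by_cases h108 : b < 4360
    · exact blocks_spec _ _ _ fcheck108 b (by omega) h108
    by_cases h109 : b < 4400
    · exact blocks_spec _ _ _ fcheck109 b (by omega) h109
    by_cases h110 : b < 4440
    · exact blocks_spec _ _ _ fcheck110 b (by omega) h110
    by_cases h111 : b < 4480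
    · exact blocks_spec _ _ _ fcheck111 b (by omega) h111
    by_cases h112 : b < 4520
    · exact blocks_spec _ _ _ fcheck112 b (by omega) h112
    by_cases h113 : b < 4560
    · exact blocks_spec _ _ _ fcheck113 b (by omega) h113
    by_cases h114 : b < 4600
    · exact blocks_spec _ _ _ fcheck114 b (by omega) h114
    by_cases h115 : b < 4640
    · exact blocks_spec _ _ _ fcheck115 b (by omega) h115
    by_cases h116 : b < 4680
    · exact blocks_spec _ _ _ fcheck116 b (by omega) h116
    by_cases h117 : b < 4720
    · exact blocks_spec _ _ _ fcheck117 b (by omega) h117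
    by_cases h118 : b < 4760
    · exact blocks_spec _ _ _ fcheck118 b (by omega) h118
    by_cases h119 : b < 4800
    · exact blocks_spec _ _ _ fcheck119 b (by omega) h119
    by_cases h120 : b < 4840
    · exact blocks_spec _ _ _ fcheck120 b (by omega) h120
    by_cases h121 : b < 4880
    · exact blocks_spec _ _ _ fcheck121 b (by omega) h121
    by_cases h122 : b < 4920
    · exact blocks_spec _ _ _ fcheck122 b (by omega) h122
    by_cases h123 : b < 4960
    · exact blocks_spec _ _ _ fcheck123 b (by omega) h123
    by_cases h124 : b < 5000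
    · exact blocks_spec _ _ _ fcheck124 b (by omega) h124
    by_cases h125 : b < 5040
    · exact blocks_spec _ _ _ fcheck125 b (by omega) h125
    by_cases h126 : b < 5080
    · exact blocks_spec _ _ _ fcheck126 b (by omega) h126
    by_cases h127 : b < 5120
    · exact blocks_spec _ _ _ fcheck127 b (by omega) h127
    by_cases h128 : b < 5160
    · exact blocks_spec _ _ _ fcheck128 b (by omega) h128
    by_cases h129 : b < 5200
    · exact blocks_spec _ _ _ fcheck129 b (by omega) h129
    by_cases h130 : b < 5240
    · exact blocks_spec _ _ _ fcheck130 b (by omega) h130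
    by_cases h131 : b < 5280
    · exact blocks_spec _ _ _ fcheck131 b (by omega) h131
    by_cases h132 : b < 5320
    · exact blocks_spec _ _ _ fcheck132 b (by omega) h132
    by_cases h133 : b < 5360
    · exact blocks_spec _ _ _ fcheck133 b (by omega) h133
    by_cases h134 : b < 5400
    · exact blocks_spec _ _ _ fcheck134 b (by omega) h134
    by_cases h135 : b < 5440
    · exact blocks_spec _ _ _ fcheck135 b (by omega) h135
    by_cases h136 : b < 5480
    · exact blocks_spec _ _ _ fcheck136 b (by omega) h136
    by_cases h137 : b < 5520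
    · exact blocks_spec _ _ _ fcheck137 b (by omega) h137
    by_cases h138 : b < 5560
    · exact blocks_spec _ _ _ fcheck138 b (by omega) h138
    by_cases h139 : b < 5600
    · exact blocks_spec _ _ _ fcheck139 b (by omega) h139
    by_cases h140 : b < 5640
    · exact blocks_spec _ _ _ fcheck140 b (by omega) h140
    by_cases h141 : b < 5680
    · exact blocks_spec _ _ _ fcheck141 b (by omega) h141
    by_cases h142 : b < 5720
    · exact blocks_spec _ _ _ fcheck142 b (by omega) h142
    by_cases h143 : b < 5760
    · exact blocks_spec _ _ _ fcheck143 b (by omega) h143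
    by_cases h144 : b < 5800
    · exact blocks_spec _ _ _ fcheck144 b (by omega) h144
    by_cases h145 : b < 5840
    · exact blocks_spec _ _ _ fcheck145 b (by omega) h145
    by_cases h146 : b < 5880
    · exact blocks_spec _ _ _ fcheck146 b (by omega) h146
    by_cases h147 : b < 5920
    · exact blocks_spec _ _ _ fcheck147 b (by omega) h147
    by_cases h148 : b < 5960
    · exact blocks_spec _ _ _ fcheck148 b (by omega) h148
    by_cases h149 : b < 6000
    · exact blocks_spec _ _ _ fcheck149 b (by omega) h149
    by_cases h150 : b < 6040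
    · exact blocks_spec _ _ _ fcheck150 b (by omega) h150
    by_cases h151 : b < 6080
    · exact blocks_spec _ _ _ fcheck151 b (by omega) h151
    by_cases h152 : b < 6120
    · exact blocks_spec _ _ _ fcheck152 b (by omega) h152
    by_cases h153 : b < 6160
    · exact blocks_spec _ _ _ fcheck153 b (by omega) h153
    by_cases h154 : b < 6200
    · exact blocks_spec _ _ _ fcheck154 b (by omega) h154
    by_cases h155 : b < 6240
    · exact blocks_spec _ _ _ fcheck155 b (by omega) h155
    by_cases h156 : b < 6280
    · exact blocks_spec _ _ _ fcheck156 b (by omega) h156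
    by_cases h157 : b < 6320
    · exact blocks_spec _ _ _ fcheck157 b (by omega) h157
    by_cases h158 : b < 6360
    · exact blocks_spec _ _ _ fcheck158 b (by omega) h158
    by_cases h159 : b < 6400
    · exact blocks_spec _ _ _ fcheck159 b (by omega) h159
    by_cases h160 : b < 6440
    · exact blocks_spec _ _ _ fcheck160 b (by omega) h160
    by_cases h161 : b < 6480
    · exact blocks_spec _ _ _ fcheck161 b (by omega) h161
    by_cases h162 : b < 6520
    · exact blocks_spec _ _ _ fcheck162 b (by omega) h162
    by_cases h163 : b < 6560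
    · exact blocks_spec _ _ _ fcheck163 b (by omega) h163
    by_cases h164 : b < 6600
    · exact blocks_spec _ _ _ fcheck164 b (by omega) h164
    by_cases h165 : b < 6640
    · exact blocks_spec _ _ _ fcheck165 b (by omega) h165
    by_cases h166 : b < 6680
    · exact blocks_spec _ _ _ fcheck166 b (by omega) h166
    by_cases h167 : b < 6720
    · exact blocks_spec _ _ _ fcheck167 b (by omega) h167
    by_cases h168 : b < 6760
    · exact blocks_spec _ _ _ fcheck168 b (by omega) h168
    by_cases h169 : b < 6800
    · exact blocks_spec _ _ _ fcheck169 b (by omega) h169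
    by_cases h170 : b < 6840
    · exact blocks_spec _ _ _ fcheck170 b (by omega) h170
    by_cases h171 : b < 6880
    · exact blocks_spec _ _ _ fcheck171 b (by omega) h171
    by_cases h172 : b < 6920
    · exact blocks_spec _ _ _ fcheck172 b (by omega) h172
    by_cases h173 : b < 6960
    · exact blocks_spec _ _ _ fcheck173 b (by omega) h173
    by_cases h174 : b < 7000
    · exact blocks_spec _ _ _ fcheck174 b (by omega) h174
    by_cases h175 : b < 7040
    · exact blocks_spec _ _ _ fcheck175 b (by omega) h175
    by_cases h176 : b < 7080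
    · exact blocks_spec _ _ _ fcheck176 b (by omega) h176
    by_cases h177 : b < 7120
    · exact blocks_spec _ _ _ fcheck177 b (by omega) h177
    by_cases h178 : b < 7160
    · exact blocks_spec _ _ _ fcheck178 b (by omega) h178
    by_cases h179 : b < 7200
    · exact blocks_spec _ _ _ fcheck179 b (by omega) h179
    by_cases h180 : b < 7240
    · exact blocks_spec _ _ _ fcheck180 b (by omega) h180
    by_cases h181 : b < 7280
    · exact blocks_spec _ _ _ fcheck181 b (by omega) h181
    by_cases h182 : b < 7320
    · exact blocks_spec _ _ _ fcheck182 b (by omega) h182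
    by_cases h183 : b < 7360
    · exact blocks_spec _ _ _ fcheck183 b (by omega) h183
    by_cases h184 : b < 7400
    · exact blocks_spec _ _ _ fcheck184 b (by omega) h184
    by_cases h185 : b < 7440
    · exact blocks_spec _ _ _ fcheck185 b (by omega) h185
    by_cases h186 : b < 7480
    · exact blocks_spec _ _ _ fcheck186 b (by omega) h186
    by_cases h187 : b < 7520
    · exact blocks_spec _ _ _ fcheck187 b (by omega) h187
    by_cases h188 : b < 7560
    · exact blocks_spec _ _ _ fcheck188 b (by omega) h188
    by_cases h189 : b < 7600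
    · exact blocks_spec _ _ _ fcheck189 b (by omega) h189
    by_cases h190 : b < 7640
    · exact blocks_spec _ _ _ fcheck190 b (by omega) h190
    by_cases h191 : b < 7680
    · exact blocks_spec _ _ _ fcheck191 b (by omega) h191
    by_cases h192 : b < 7720
    · exact blocks_spec _ _ _ fcheck192 b (by omega) h192
    by_cases h193 : b < 7760
    · exact blocks_spec _ _ _ fcheck193 b (by omega) h193
    by_cases h194 : b < 7800
    · exact blocks_spec _ _ _ fcheck194 b (by omega) h194
    by_cases h195 : b < 7840
    · exact blocks_spec _ _ _ fcheck195 b (by omega) h195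
    by_cases h196 : b < 7880
    · exact blocks_spec _ _ _ fcheck196 b (by omega) h196
    by_cases h197 : b < 7920
    · exact blocks_spec _ _ _ fcheck197 b (by omega) h197
    by_cases h198 : b < 7960
    · exact blocks_spec _ _ _ fcheck198 b (by omega) h198
    by_cases h199 : b < 8000
    · exact blocks_spec _ _ _ fcheck199 b (by omega) h199
    by_cases h200 : b < 8040
    · exact blocks_spec _ _ _ fcheck200 b (by omega) h200
    by_cases h201 : b < 8080
    · exact blocks_spec _ _ _ fcheck201 b (by omega) h201
    by_cases h202 : b < 8120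
    · exact blocks_spec _ _ _ fcheck202 b (by omega) h202
    by_cases h203 : b < 8160
    · exact blocks_spec _ _ _ fcheck203 b (by omega) h203
    by_cases h204 : b < 8200
    · exact blocks_spec _ _ _ fcheck204 b (by omega) h204
    by_cases h205 : b < 8240
    · exact blocks_spec _ _ _ fcheck205 b (by omega) h205
    by_cases h206 : b < 8280
    · exact blocks_spec _ _ _ fcheck206 b (by omega) h206
    by_cases h207 : b < 8320
    · exact blocks_spec _ _ _ fcheck207 b (by omega) h207
    by_cases h208 : b < 8360
    · exact blocks_spec _ _ _ fcheck208 b (by omega) h208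
    by_cases h209 : b < 8400
    · exact blocks_spec _ _ _ fcheck209 b (by omega) h209
    by_cases h210 : b < 8440
    · exact blocks_spec _ _ _ fcheck210 b (by omega) h210
    by_cases h211 : b < 8480
    · exact blocks_spec _ _ _ fcheck211 b (by omega) h211
    by_cases h212 : b < 8520
    · exact blocks_spec _ _ _ fcheck212 b (by omega) h212
    by_cases h213 : b < 8560
    · exact blocks_spec _ _ _ fcheck213 b (by omega) h213
    by_cases h214 : b < 8600
    · exact blocks_spec _ _ _ fcheck214 b (by omega) h214
    by_cases h215 : b < 8640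
    · exact blocks_spec _ _ _ fcheck215 b (by omega) h215
    by_cases h216 : b < 8680
    · exact blocks_spec _ _ _ fcheck216 b (by omega) h216
    by_cases h217 : b < 8720
    · exact blocks_spec _ _ _ fcheck217 b (by omega) h217
    by_cases h218 : b < 8760
    · exact blocks_spec _ _ _ fcheck218 b (by omega) h218
    by_cases h219 : b < 8800
    · exact blocks_spec _ _ _ fcheck219 b (by omega) h219
    by_cases h220 : b < 8840
    · exact blocks_spec _ _ _ fcheck220 b (by omega) h220
    by_cases h221 : b < 8880
    · exact blocks_spec _ _ _ fcheck221 b (by omega) h221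
    by_cases h222 : b < 8920
    · exact blocks_spec _ _ _ fcheck222 b (by omega) h222
    by_cases h223 : b < 8960
    · exact blocks_spec _ _ _ fcheck223 b (by omega) h223
    by_cases h224 : b < 9000
    · exact blocks_spec _ _ _ fcheck224 b (by omega) h224
    by_cases h225 : b < 9040
    · exact blocks_spec _ _ _ fcheck225 b (by omega) h225
    by_cases h226 : b < 9080
    · exact blocks_spec _ _ _ fcheck226 b (by omega) h226
    by_cases h227 : b < 9120
    · exact blocks_spec _ _ _ fcheck227 b (by omega) h227
    by_cases h228 : b < 9160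
    · exact blocks_spec _ _ _ fcheck228 b (by omega) h228
    by_cases h229 : b < 9200
    · exact blocks_spec _ _ _ fcheck229 b (by omega) h229
    by_cases h230 : b < 9240
    · exact blocks_spec _ _ _ fcheck230 b (by omega) h230
    by_cases h231 : b < 9280
    · exact blocks_spec _ _ _ fcheck231 b (by omega) h231
    by_cases h232 : b < 9320
    · exact blocks_spec _ _ _ fcheck232 b (by omega) h232
    by_cases h233 : b < 9360
    · exact blocks_spec _ _ _ fcheck233 b (by omega) h233
    by_cases h234 : b < 9400
    · exact blocks_spec _ _ _ fcheck234 b (by omega) h234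
    by_cases h235 : b < 9440
    · exact blocks_spec _ _ _ fcheck235 b (by omega) h235
    by_cases h236 : b < 9480
    · exact blocks_spec _ _ _ fcheck236 b (by omega) h236
    by_cases h237 : b < 9520
    · exact blocks_spec _ _ _ fcheck237 b (by omega) h237
    by_cases h238 : b < 9560
    · exact blocks_spec _ _ _ fcheck238 b (by omega) h238
    by_cases h239 : b < 9600
    · exact blocks_spec _ _ _ fcheck239 b (by omega) h239
    by_cases h240 : b < 9640
    · exact blocks_spec _ _ _ fcheck240 b (by omega) h240
    by_cases h241 : b < 9680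
    · exact blocks_spec _ _ _ fcheck241 b (by omega) h241
    by_cases h242 : b < 9720
    · exact blocks_spec _ _ _ fcheck242 b (by omega) h242
    by_cases h243 : b < 9760
    · exact blocks_spec _ _ _ fcheck243 b (by omega) h243
    by_cases h244 : b < 9800
    · exact blocks_spec _ _ _ fcheck244 b (by omega) h244
    by_cases h245 : b < 9840
    · exact blocks_spec _ _ _ fcheck245 b (by omega) h245
    by_cases h246 : b < 9880
    · exact blocks_spec _ _ _ fcheck246 b (by omega) h246
    by_cases h247 : b < 9920
    · exact blocks_spec _ _ _ fcheck247 b (by omega) h247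
    by_cases h248 : b < 9960
    · exact blocks_spec _ _ _ fcheck248 b (by omega) h248
    by_cases h249 : b < 10000
    · exact blocks_spec _ _ _ fcheck249 b (by omega) h249
    by_cases h250 : b < 10030
    · exact blocks_spec _ _ _ fcheck250 b (by omega) h250
    omega
  rows c hc := by
    have hc' : c < 28431 := hc
    by_cases h0 : c < 600
    · exact Tab.linkRows_spec _ _ rcheck0 c (by omega) h0 hc
    by_cases h1 : c < 1200
    · exact Tab.linkRows_spec _ _ rcheck1 c (by omega) h1 hc
    by_cases h2 : c < 1800
    · exact Tab.linkRows_spec _ _ rcheck2 c (by omega) h2 hc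
    by_cases h3 : c < 2400
    · exact Tab.linkRows_spec _ _ rcheck3 c (by omega) h3 hc
    by_cases h4 : c < 3000
    · exact Tab.linkRows_spec _ _ rcheck4 c (by omega) h4 hc
    by_cases h5 : c < 3600
    · exact Tab.linkRows_spec _ _ rcheck5 c (by omega) h5 hc
    by_cases h6 : c < 4200
    · exact Tab.linkRows_spec _ _ rcheck6 c (by omega) h6 hc
    by_cases h7 : c < 4800
    · exact Tab.linkRows_spec _ _ rcheck7 c (by omega) h7 hc
    by_cases h8 : c < 5400
    · exact Tab.linkRows_spec _ _ rcheck8 c (by omega) h8 hc
    by_cases h9 : c < 6000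
    · exact Tab.linkRows_spec _ _ rcheck9 c (by omega) h9 hc
    by_cases h10 : c < 6600
    · exact Tab.linkRows_spec _ _ rcheck10 c (by omega) h10 hc
    by_cases h11 : c < 7200
    · exact Tab.linkRows_spec _ _ rcheck11 c (by omega) h11 hc
    by_cases h12 : c < 7800
    · exact Tab.linkRows_spec _ _ rcheck12 c (by omega) h12 hc
    by_cases h13 : c < 8400
    · exact Tab.linkRows_spec _ _ rcheck13 c (by omega) h13 hc
    by_cases h14 : c < 9000
    · exact Tab.linkRows_spec _ _ rcheck14 c (by omega) h14 hc
    by_cases h15 : c < 9600
    · exact Tab.linkRows_spec _ _ rcheck15 c (by omega) h15 hc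
    by_cases h16 : c < 10200
    · exact Tab.linkRows_spec _ _ rcheck16 c (by omega) h16 hc
    by_cases h17 : c < 10800
    · exact Tab.linkRows_spec _ _ rcheck17 c (by omega) h17 hc
    by_cases h18 : c < 11400
    · exact Tab.linkRows_spec _ _ rcheck18 c (by omega) h18 hc
    by_cases h19 : c < 12000
    · exact Tab.linkRows_spec _ _ rcheck19 c (by omega) h19 hc
    by_cases h20 : c < 12600
    · exact Tab.linkRows_spec _ _ rcheck20 c (by omega) h20 hc
    by_cases h21 : c < 13200
    · exact Tab.linkRows_spec _ _ rcheck21 c (by omega) h21 hc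
    by_cases h22 : c < 13800
    · exact Tab.linkRows_spec _ _ rcheck22 c (by omega) h22 hc
    by_cases h23 : c < 14400
    · exact Tab.linkRows_spec _ _ rcheck23 c (by omega) h23 hc
    by_cases h24 : c < 15000
    · exact Tab.linkRows_spec _ _ rcheck24 c (by omega) h24 hc
    by_cases h25 : c < 15600
    · exact Tab.linkRows_spec _ _ rcheck25 c (by omega) h25 hc
    by_cases h26 : c < 16200
    · exact Tab.linkRows_spec _ _ rcheck26 c (by omega) h26 hc
    by_cases h27 : c < 16800
    · exact Tab.linkRows_spec _ _ rcheck27 c (by omega) h27 hc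
    by_cases h28 : c < 17400
    · exact Tab.linkRows_spec _ _ rcheck28 c (by omega) h28 hc
    by_cases h29 : c < 18000
    · exact Tab.linkRows_spec _ _ rcheck29 c (by omega) h29 hc
    by_cases h30 : c < 18600
    · exact Tab.linkRows_spec _ _ rcheck30 c (by omega) h30 hc
    by_cases h31 : c < 19200
    · exact Tab.linkRows_spec _ _ rcheck31 c (by omega) h31 hc
    by_cases h32 : c < 19800
    · exact Tab.linkRows_spec _ _ rcheck32 c (by omega) h32 hc
    by_cases h33 : c < 20400
    · exact Tab.linkRows_spec _ _ rcheck33 c (by omega) h33 hc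
    by_cases h34 : c < 21000
    · exact Tab.linkRows_spec _ _ rcheck34 c (by omega) h34 hc
    by_cases h35 : c < 21600
    · exact Tab.linkRows_spec _ _ rcheck35 c (by omega) h35 hc
    by_cases h36 : c < 22200
    · exact Tab.linkRows_spec _ _ rcheck36 c (by omega) h36 hc
    by_cases h37 : c < 22800
    · exact Tab.linkRows_spec _ _ rcheck37 c (by omega) h37 hc
    by_cases h38 : c < 23400
    · exact Tab.linkRows_spec _ _ rcheck38 c (by omega) h38 hc
    by_cases h39 : c < 24000
    · exact Tab.linkRows_spec _ _ rcheck39 c (by omega) h39 hc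
    by_cases h40 : c < 24600
    · exact Tab.linkRows_spec _ _ rcheck40 c (by omega) h40 hc
    by_cases h41 : c < 25200
    · exact Tab.linkRows_spec _ _ rcheck41 c (by omega) h41 hc
    by_cases h42 : c < 25800
    · exact Tab.linkRows_spec _ _ rcheck42 c (by omega) h42 hc
    by_cases h43 : c < 26400
    · exact Tab.linkRows_spec _ _ rcheck43 c (by omega) h43 hc
    by_cases h44 : c < 27000
    · exact Tab.linkRows_spec _ _ rcheck44 c (by omega) h44 hc
    by_cases h45 : c < 27600
    · exact Tab.linkRows_spec _ _ rcheck45 c (by omega) h45 hc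
    by_cases h46 : c < 28200
    · exact Tab.linkRows_spec _ _ rcheck46 c (by omega) h46 hc
    by_cases h47 : c < 28431
    · exact Tab.linkRows_spec _ _ rcheck47 c (by omega) h47 hc
    omega
  base := by decide +kernel

end Cfsg.Agent.Screen.CosetEnum.Fi23Mult.BRT
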